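import Groth.Agent.DRing.KoszulLift.Fibre
import Mathlib.RingTheory.Localization.BaseChange
import Mathlib.RingTheory.Localization.Away.Basic
import Mathlib.RingTheory.Flat.Localization

/-!
# Spreading regular sequences and isomorphisms of finite modules to a basic open
-/

set_option autoImplicit false
universe u
open IsLocalRing Function
open scoped Pointwise TensorProduct

namespace Groth.Agent.DRing.KoszulSpread

open RingTheory.Sequence

/-- Weak regularity does not see units. -/
theorem isWeaklyRegular_of_associated {C : Type u} [CommRing C] : ∀ {l l' : List C},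
    List.Forall₂ Associated l l' → ∀ {M : Type u} [AddCommGroup M] [Module C M],
      IsWeaklyRegular M l → IsWeaklyRegular M l' := by
  intro l l' h
  induction h with
  | nil => intro M _ _ _; exact IsWeaklyRegular.nil C M
  | @cons x y l l' hxy _ ih =>
    intro M _ _ hM
    rw [isWeaklyRegular_cons_iff] at hM ⊢
    obtain ⟨u, rfl⟩ := hxy
    have hu : IsSMulRegular M (u : C) := u.isUnit.isSMulRegular M
    refine ⟨hM.1.mul hu, ?_⟩
    have heq : x • (⊤ : Submodule C M) = (x * u) • (⊤ : Submodule C M) := by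
      refine le_antisymm ?_ ?_ <;> rintro _ ⟨m, -, rfl⟩
      · exact ⟨(↑u⁻¹ : C) • m, trivial, by simp [smul_smul, mul_assoc, mul_comm (x : C)]⟩
      · exact ⟨(u : C) • m, trivial, by simp [smul_smul, mul_comm (x : C)]⟩
    exact ((Submodule.quotEquivOfEq _ _ heq).isWeaklyRegular_congr l').1 (ih hM.2)

variable {S : Type u} [CommRing S]

/-- A uniform multiplier. -/
theorem exists_smul_mem (q : Ideal S) [q.IsPrime] {M : Type u} [AddCommGroup M] [Module S M]
    [Module.Finite S M] (N : Submodule S M) (h : ∀ m : M, ∃ t ∉ q, t • m ∈ N) :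
    ∃ t ∉ q, ∀ m : M, t • m ∈ N := by
  classical
  obtain ⟨s, hs⟩ := Module.Finite.fg_top (R := S) (M := M)
  choose t ht htm using h
  refine ⟨∏ m ∈ s, t m, fun h' => ?_, fun m => ?_⟩
  · obtain ⟨m, -, hm⟩ := (Ideal.IsPrime.prod_mem_iff).1 h'
    exact ht m hm
  · have : (⊤ : Submodule S M) ≤ N.comap (LinearMap.lsmul S M (∏ m ∈ s, t m)) := by
      rw [← hs, Submodule.span_le]
      intro m hm
      change (∏ m ∈ s, t m) • m ∈ N
      rw [← Finset.prod_erase_mul s t hm, mul_smul]
      exact N.smul_mem _ (htm m)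
    exact this (Submodule.mem_top (x := m))

/-- Regular sequences spread out to a basic open. -/
theorem exists_isWeaklyRegular_away [IsNoetherianRing S] (q : Ideal S) [q.IsPrime] (as : List S)
    (h : IsWeaklyRegular (Localization.AtPrime q) (as.map (algebraMap S (Localization.AtPrime q)))) :
    ∃ g₀ ∉ q, ∀ g : S, g₀ ∣ g → ∀ (C : Type u) [CommRing C] [Algebra S C] [IsLocalization.Away g C],
      IsWeaklyRegular C (as.map (algebraMap S C)) := by
  classical
  have key : ∀ i : Fin as.length, ∃ t ∉ q, ∀ x : S, as[i] * x ∈ Ideal.ofList (as.take i) →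
      t * x ∈ Ideal.ofList (as.take i) := by
    intro i
    let J := Ideal.ofList (as.take i)
    let C : Ideal S := Submodule.comap (LinearMap.lsmul S S as[i]) J
    obtain ⟨t, ht, htC⟩ := exists_smul_mem q (Submodule.comap C.subtype J) fun m => by
      have hm := (isWeaklyRegular_iff _ _).1 h i (by simp)
      rw [List.getElem_map, ← List.map_take, ← Ideal.map_ofList] at hm
      have h1 : algebraMap S (Localization.AtPrime q) m ∈ J.map (algebraMap S (Localization.AtPrime q)) := by
        have h2 := hm.right_eq_zero_of_smul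
          (x := Submodule.Quotient.mk (algebraMap S (Localization.AtPrime q) m)) ?_
        · rwa [Submodule.Quotient.mk_eq_zero, smul_eq_mul, Ideal.mul_top] at h2
        · rw [← Submodule.Quotient.mk_smul, Submodule.Quotient.mk_eq_zero, smul_eq_mul, smul_eq_mul,
            Ideal.mul_top, ← map_mul]
          exact Ideal.mem_map_of_mem _ m.2
      obtain ⟨t, ht, htm⟩ := (IsLocalization.algebraMap_mem_map_algebraMap_iff q.primeCompl _ J _).1 h1
      exact ⟨t, ht, by simpa [mul_comm] using htm⟩
    exact ⟨t, ht, fun x hx => htC ⟨x, hx⟩⟩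
  choose t ht htm using key
  refine ⟨∏ i, t i, fun h' => ?_, fun g hg C _ _ _ => (isWeaklyRegular_iff _ _).2 fun i hi => ?_⟩
  · obtain ⟨i, -, hi⟩ := (Ideal.IsPrime.prod_mem_iff).1 h'
    exact ht i hi
  rw [List.length_map] at hi
  rw [List.getElem_map, ← List.map_take, ← Ideal.map_ofList, isSMulRegular_iff_right_eq_zero_of_smul]
  intro z hz
  obtain ⟨z, rfl⟩ := Submodule.Quotient.mk_surjective _ z
  rw [← Submodule.Quotient.mk_smul, Submodule.Quotient.mk_eq_zero, smul_eq_mul, smul_eq_mul,
    Ideal.mul_top] at hz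
  rw [Submodule.Quotient.mk_eq_zero, smul_eq_mul, Ideal.mul_top]
  obtain ⟨⟨m, s⟩, hms⟩ := IsLocalization.surj (Submonoid.powers g) z
  have h0 : algebraMap S C (as[i] * m) ∈ (Ideal.ofList (as.take i)).map (algebraMap S C) := by
    rw [map_mul, ← hms, ← mul_assoc]
    exact Ideal.mul_mem_right _ _ hz
  obtain ⟨_, ⟨k, rfl⟩, hk⟩ := (IsLocalization.algebraMap_mem_map_algebraMap_iff (Submonoid.powers g) C _ _).mp h0
  have h1 := Ideal.mem_map_of_mem (algebraMap S C) (htm ⟨i, hi⟩ (g ^ k * m) (by
    rw [mul_left_comm]; exact hk))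
  have hu : IsUnit (algebraMap S C g) := IsLocalization.Away.algebraMap_isUnit g
  have hti : IsUnit (algebraMap S C (t ⟨i, hi⟩)) :=
    isUnit_of_dvd_unit (map_dvd _ ((Finset.dvd_prod_of_mem t (Finset.mem_univ _)).trans hg)) hu
  rw [map_mul, map_mul, map_pow, Ideal.unit_mul_mem_iff_mem _ hti,
    Ideal.unit_mul_mem_iff_mem _ (hu.pow k), ← hms] at h1
  exact (Ideal.mul_unit_mem_iff_mem _ (IsLocalization.map_units C s)).mp h1

/-- Finite modules isomorphic at a prime are isomorphic on a basic open. -/
theorem exists_equiv_away [IsNoetherianRing S] (q : Ideal S) [q.IsPrime] {M N : Type u} [AddCommGroup M]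
    [Module S M] [Module.Finite S M] [AddCommGroup N] [Module S N] [Module.Finite S N]
    (e : Localization.AtPrime q ⊗[S] M ≃ₗ[Localization.AtPrime q] Localization.AtPrime q ⊗[S] N) :
    ∃ g₀ ∉ q, ∀ g : S, g₀ ∣ g → ∀ (C : Type u) [CommRing C] [Algebra S C] [IsLocalization.Away g C],
      Nonempty (C ⊗[S] M ≃ₗ[C] C ⊗[S] N) := by
  haveI : Module.FinitePresentation S M := Module.finitePresentation_of_finite S M
  let mkN := TensorProduct.mk S (Localization.AtPrime q) N 1
  let mkM := TensorProduct.mk S (Localization.AtPrime q) M 1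
  haveI : IsLocalizedModule q.primeCompl mkN := (isLocalizedModule_iff_isBaseChange q.primeCompl
    (Localization.AtPrime q) mkN).2 (TensorProduct.isBaseChange S N (Localization.AtPrime q))
  haveI : IsLocalizedModule q.primeCompl mkM := (isLocalizedModule_iff_isBaseChange q.primeCompl
    (Localization.AtPrime q) mkM).2 (TensorProduct.isBaseChange S M (Localization.AtPrime q))
  obtain ⟨h, s, hs⟩ := Module.FinitePresentation.exists_lift_of_isLocalizedModule q.primeCompl mkN
    ((e.toLinearMap.restrictScalars S).comp mkM)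
  have hs' : ∀ z, mkN (h z) = (s : S) • e (mkM z) := fun z => LinearMap.congr_fun hs z
  obtain ⟨t₁, ht₁, hker⟩ := exists_smul_mem q (⊥ : Submodule S (LinearMap.ker h)) fun z => by
    have h1 : (s : S) • e (mkM z) = 0 := by rw [← hs', z.2, map_zero]
    rw [← algebraMap_smul (Localization.AtPrime q) (s : S), (IsLocalization.map_units _ s).smul_eq_zero,
      LinearEquiv.map_eq_zero_iff] at h1
    obtain ⟨t, ht⟩ := IsLocalizedModule.exists_of_eq (S := q.primeCompl) (f := mkM) (h1.trans (map_zero mkM).symm)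
    exact ⟨t, t.2, (Submodule.mem_bot _).2 (Subtype.ext (ht.trans (smul_zero _)))⟩
  obtain ⟨t₂, ht₂, hcoker⟩ := exists_smul_mem q (LinearMap.range h) fun y => by
    obtain ⟨⟨z, t⟩, hzt⟩ := IsLocalizedModule.surj q.primeCompl mkM (e.symm (mkN y))
    have h1 : mkN (h z) = mkN ((s : S) • (t : S) • y) := by
      rw [hs', ← hzt, Submonoid.smul_def, show e ((t : S) • e.symm (mkN y)) = (t : S) • e (e.symm (mkN y)) from
        e.toLinearMap.map_smul_of_tower _ _, LinearEquiv.apply_symm_apply, map_smul, map_smul]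
    obtain ⟨t', ht'⟩ := IsLocalizedModule.exists_of_eq (S := q.primeCompl) (f := mkN) h1
    refine ⟨(t' * (s * t) : q.primeCompl), (t' * (s * t)).2, ?_⟩
    rw [Submonoid.coe_mul, Submonoid.coe_mul, mul_smul, mul_smul]
    exact ⟨(t' : S) • z, (map_smul h _ _).trans ht'⟩
  refine ⟨t₁ * t₂, fun h' => (‹q.IsPrime›.mem_or_mem h').elim ht₁ ht₂, fun g hg C _ _ _ => ?_⟩
  have hu : IsUnit (algebraMap S C g) := IsLocalization.Away.algebraMap_isUnit g
  have hu₁ : IsUnit (algebraMap S C t₁) := isUnit_of_dvd_unit (map_dvd _ ((dvd_mul_right _ _).trans hg)) hu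
  have hu₂ : IsUnit (algebraMap S C t₂) := isUnit_of_dvd_unit (map_dvd _ ((dvd_mul_left _ _).trans hg)) hu
  have hzero : ∀ (W : Type u) [AddCommGroup W] [Module S W] (t : S), IsUnit (algebraMap S C t) →
      (∀ w : W, t • w = 0) → Subsingleton (C ⊗[S] W) := fun W _ _ t ht hW => by
    refine subsingleton_of_forall_eq 0 fun x => ?_
    rw [← ht.smul_eq_zero, algebraMap_smul]
    induction x using TensorProduct.induction_on with
    | zero => simp
    | tmul c w => rw [TensorProduct.smul_tmul', TensorProduct.smul_tmul, hW, TensorProduct.tmul_zero]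
    | add x y hx hy => rw [smul_add, hx, hy, add_zero]
  haveI : Module.Flat S C := IsLocalization.flat C (Submonoid.powers g)
  refine ⟨LinearEquiv.ofBijective (LinearMap.baseChange C h) ⟨?_, ?_⟩⟩
  · rw [← LinearMap.ker_eq_bot, LinearMap.ker_eq_bot']
    intro x hx
    haveI := hzero (LinearMap.ker h) t₁ hu₁ fun w => (Submodule.mem_bot _).1 (hker w)
    obtain ⟨y, rfl⟩ := (Module.Flat.lTensor_exact C (LinearMap.exact_subtype_ker_map h) x).1
      (by rw [← hx]; exact (congrFun (LinearMap.baseChange_eq_ltensor (A := C) h) x).symm)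
    rw [Subsingleton.elim y 0, map_zero]
  · intro x
    haveI := hzero (N ⧸ LinearMap.range h) t₂ hu₂ fun w => by
      obtain ⟨w, rfl⟩ := Submodule.mkQ_surjective _ w
      exact (Submodule.Quotient.mk_eq_zero _).2 (hcoker w)
    obtain ⟨y, hy⟩ := (lTensor_exact C (LinearMap.exact_map_mkQ_range h)
      (Submodule.mkQ_surjective _) x).1 (Subsingleton.elim _ _)
    exact ⟨y, (congrFun (LinearMap.baseChange_eq_ltensor (A := C) h) y).trans hy⟩

end Groth.Agent.DRing.KoszulSpread
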