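import Groth.Agent.DRing.KoszulSpread.Basic
import Groth.Agent.DRing.Descent
import Groth.Agent.DRing.BaseChangeAmp
import Groth.Agent.FlatOpen.API
import Groth.Agent.Wt.CMSlice
import Mathlib.RingTheory.TensorProduct.Quotient

/-!
# Spreading out Koszul data from a prime
-/

set_option autoImplicit false
universe u
attribute [local instance] HasDerivedCategory.standard
open IsLocalRing Function CategoryTheory CategoryTheory.Limits DerivedCategory
open scoped TensorProduct

namespace Groth.Agent.DRing.KoszulSpread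

open RingTheory.Sequence DBasic

variable {S : Type u} [CommRing S]

/-- Extension of scalars along `algebraMap` is the tensor product. -/
theorem nonempty_extIso {C : Type u} [CommRing C] [i : Algebra S C] (M : ModuleCat.{u} S) :
    Nonempty ((ModuleCat.extendScalars.{u, u, u} (algebraMap S C)).obj M ≅ ModuleCat.of C (C ⊗[S] M)) := by
  have key : ∀ (ψ : S →+* C) (j : Algebra S C), j = ψ.toAlgebra →
      Nonempty ((ModuleCat.extendScalars.{u, u, u} ψ).obj M ≅ ModuleCat.of C (C ⊗[S] M)) := by
    rintro ψ j rfl; exact ⟨Iso.refl _⟩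
  exact key _ i (Algebra.algebra_ext _ _ fun _ => rfl)

/-- Homology of a flat base change. -/
theorem nonempty_homologyExt {C : Type u} [CommRing C] [Algebra S C] [Module.Flat S C] (E : DRing.Cx S) (i : ℤ) :
    Nonempty (((LTensor.extCx (algebraMap S C)).obj E).homology i ≅ ModuleCat.of C (C ⊗[S] (E.homology i))) := by
  haveI := ModuleCat.preservesFiniteLimits_extendScalars_of_flat (RingHom.flat_algebraMap_iff.2 ‹Module.Flat S C›)
  haveI := (ModuleCat.extendRestrictScalarsAdj.{u} (algebraMap S C)).leftAdjoint_preservesColimits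
  obtain ⟨e⟩ := nonempty_extIso (C := C) (E.homology i)
  exact ⟨(E.sc i).mapHomologyIso (ModuleCat.extendScalars.{u, u, u} (algebraMap S C)) ≪≫ e⟩

theorem finite_homology [IsNoetherianRing S] (E : DRing.Cx S) (i : ℤ) [Module.Finite S (E.X i)] :
    Module.Finite S (E.homology i) := by
  have : IsNoetherian S (E.X i) := inferInstance
  have : Module.Finite S (E.cycles i) := Module.Finite.of_injective _ (Homology.iCycles_injective (K := E) i)
  exact Module.Finite.of_surjective (E.homologyπ i).hom ((ModuleCat.epi_iff_surjective _).1 inferInstance)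

/-- Koszul data at a prime spread out to a basic open neighbourhood. -/
theorem exists_away {R : Type u} [CommRing R] [Algebra R S] [Algebra.FinitePresentation R S]
    [IsNoetherianRing S] (q : Ideal S) [q.IsPrime] (K : Dual.D S) (hK : DRing.IsPerfect S K)
    (fs : List (Localization.AtPrime q)) (hfs : ∀ f ∈ fs, f ∈ maximalIdeal (Localization.AtPrime q))
    (hreg : IsWeaklyRegular (Localization.AtPrime q) fs)
    (hflat : Module.Flat R (Localization.AtPrime q ⧸ Ideal.ofList fs))
    [DRing.HasLBaseChange (algebraMap S (Localization.AtPrime q))]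
    (eK : (DRing.LBaseChange (algebraMap S (Localization.AtPrime q))).obj K ≅
      DRing.toD (Koszul.koszul (Localization.AtPrime q) fs)) :
    ∃ g ∉ q, ∀ φ : Localization.Away g →ₐ[S] Localization.AtPrime q, ∃ fs' : List (Localization.Away g),
      fs'.map φ = fs ∧ IsRegular (Localization.Away g) fs' ∧
      Module.Flat R (Localization.Away g ⧸ Ideal.ofList fs') ∧
      ∀ [DRing.HasLBaseChange (algebraMap S (Localization.Away g))],
        Nonempty ((DRing.LBaseChange (algebraMap S (Localization.Away g))).obj K ≅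
          DRing.toD (Koszul.koszul (Localization.Away g) fs')) := by
  classical
  let Sq := Localization.AtPrime q
  haveI : Module.Flat S Sq := IsLocalization.flat Sq q.primeCompl
  -- numerators and denominators
  obtain ⟨l, hl, hl2⟩ : ∃ l : List (S × S),
      List.Forall₂ (fun f p => f * algebraMap S Sq p.2 = algebraMap S Sq p.1) fs l ∧ ∀ p ∈ l, p.2 ∉ q := by
    clear hfs hreg hflat eK
    induction fs with
    | nil => exact ⟨[], .nil, by simp⟩
    | cons f fs ih =>
      obtain ⟨l, hl, hl2⟩ := ih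
      obtain ⟨⟨a, s⟩, hs⟩ := IsLocalization.surj q.primeCompl f
      exact ⟨(a, (s : S)) :: l, .cons hs hl, List.forall_mem_cons.2 ⟨s.2, hl2⟩⟩
  let as := l.map Prod.fst
  let J : Ideal S := Ideal.ofList as
  obtain ⟨hlen, hget⟩ := List.forall₂_iff_get.1 hl
  have hassoc : List.Forall₂ Associated fs (as.map (algebraMap S Sq)) := by
    refine List.forall₂_iff_get.2 ⟨by simp [as, hlen], fun i h₁ h₂ => ?_⟩
    have h₃ : i < l.length := hlen ▸ h₁
    simp only [List.get_eq_getElem, as, List.getElem_map]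
    exact ⟨(IsLocalization.map_units Sq (⟨(l[i]).2, hl2 _ (List.getElem_mem h₃)⟩ : q.primeCompl)).unit,
      hget i h₁ h₃⟩
  have hJq : Ideal.ofList fs = J.map (algebraMap S Sq) := by
    rw [Ideal.map_ofList]
    have aux : ∀ {m m' : List Sq}, List.Forall₂ Associated m m' → Ideal.ofList m = Ideal.ofList m' := by
      intro m m' h
      induction h with
      | nil => rfl
      | cons h _ ih =>
        obtain ⟨u, rfl⟩ := h
        rw [Ideal.ofList_cons, Ideal.ofList_cons, ih, Ideal.span_singleton_mul_right_unit u.isUnit]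
    exact aux hassoc
  have haq : IsWeaklyRegular Sq (as.map (algebraMap S Sq)) := isWeaklyRegular_of_associated hassoc hreg
  have hmax : ∀ a ∈ as, algebraMap S Sq a ∈ maximalIdeal Sq := by
    intro a ha
    have : Ideal.ofList fs ≤ maximalIdeal Sq := Ideal.span_le.2 hfs
    exact this (hJq ▸ Ideal.mem_map_of_mem _ (Ideal.subset_span ha))
  have haqr : IsWeaklyRegular Sq (as.reverse.map (algebraMap S Sq)) := by
    rw [List.map_reverse]
    refine IsLocalRing.isWeaklyRegular_of_perm_of_subset_maximalIdeal haq (List.reverse_perm _).symm ?_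
    intro x hx
    obtain ⟨a, ha, rfl⟩ := List.mem_map.1 hx
    exact hmax a ha
  have hfsr : IsWeaklyRegular Sq fs.reverse :=
    isWeaklyRegular_of_associated (l := as.reverse.map (algebraMap S Sq))
      (by rw [List.map_reverse]; exact (List.forall₂_reverse_iff.2
        (List.Forall₂.flip (List.Forall₂.imp (fun a b h => h.symm) hassoc)))) haqr
  obtain ⟨g₁, hg₁, hreg₁⟩ := exists_isWeaklyRegular_away q as haq
  obtain ⟨g₂, hg₂, hreg₂⟩ := exists_isWeaklyRegular_away q as.reverse haqr
  -- flatness
  haveI : Module.FinitePresentation S (S ⧸ J) := Module.finitePresentation_of_finite S _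
  have hflat₀ : FlatCA.FlatAt R q (S ⧸ J) := by
    have : IsLocalizedModule q.primeCompl (Algebra.linearMap S Sq) :=
      (isLocalizedModule_iff_isLocalization' _ _).2 inferInstance
    let π := Submodule.toLocalizedQuotient' Sq q.primeCompl (Algebra.linearMap S Sq) J
    have heq : Submodule.localized' Sq q.primeCompl (Algebra.linearMap S Sq) J = J.map (algebraMap S Sq) := by
      rw [show J = Submodule.span S {x | x ∈ as} from rfl, Submodule.localized'_span, Ideal.map_span]
      rfl
    have h2 : Module.Flat R (Sq ⧸ Submodule.localized' Sq q.primeCompl (Algebra.linearMap S Sq) J) :=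
      Module.Flat.of_linearEquiv ((Submodule.quotEquivOfEq _ _ (heq.trans hJq.symm)).restrictScalars R)
    exact Module.Flat.of_linearEquiv ((IsLocalizedModule.iso q.primeCompl π).restrictScalars R)
  obtain ⟨-, ⟨_, ⟨g₃, rfl⟩, rfl⟩, hg₃, hflat₃⟩ :=
    PrimeSpectrum.isBasis_basic_opens.exists_subset_of_mem_open
      (show (⟨q, inferInstance⟩ : PrimeSpectrum S) ∈ {P : PrimeSpectrum S | FlatCA.FlatAt R P.asIdeal (S ⧸ J)}
        from hflat₀) (FlatOpen.isOpen_flatLocus R S (S ⧸ J))
  -- homology
  obtain ⟨E, a, b, hE, hEf, ⟨e⟩⟩ := hK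
  have hEk : KFlat.IsKFlat E := TorAmp.isKFlat_of_projective (fun i hi => hE i (Or.inr hi)) fun i => (hEf i).2
  haveI : ∀ i, Module.Finite S (E.X i) := fun i => (hEf i).1
  haveI : ∀ i, Module.Finite S (E.homology i) := fun i => finite_homology E i
  let iq := Perfect.baseChangeIsoOfRep (algebraMap S Sq) hEk e ≪≫ eK
  let hq : ∀ i, ((LTensor.extCx (algebraMap S Sq)).obj E).homology i ≅ (Koszul.koszul Sq fs).homology i :=
    fun i => (hIso _ i).symm ≪≫ (HF i).mapIso iq ≪≫ hIso _ i
  have hacyc := KoszulWiebe.acyclic_of_isWeaklyRegular_reverse fs hfsr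
  have hkill : ∀ i : ℤ, i ≠ 0 → ∃ t ∉ q, ∀ m : E.homology i, t • m = 0 := by
    intro i hi
    obtain ⟨ei⟩ := nonempty_homologyExt (C := Sq) E i
    haveI := ModuleCat.subsingleton_of_isZero ((hacyc i hi).of_iso (ei.symm ≪≫ hq i))
    let mk := TensorProduct.mk S Sq (E.homology i) 1
    haveI : IsLocalizedModule q.primeCompl mk :=
      (isLocalizedModule_iff_isBaseChange q.primeCompl Sq mk).2 (TensorProduct.isBaseChange S _ Sq)
    obtain ⟨t, ht, htm⟩ := exists_smul_mem q (⊥ : Submodule S (E.homology i)) fun m => by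
      obtain ⟨t, ht⟩ := IsLocalizedModule.exists_of_eq (S := q.primeCompl) (f := mk)
        (show mk m = mk 0 from @Subsingleton.elim _ ‹_› _ _)
      exact ⟨t, t.2, (Submodule.mem_bot _).2 (ht.trans (smul_zero _))⟩
    exact ⟨t, ht, fun m => (Submodule.mem_bot _).1 (htm m)⟩
  let t : ℤ → S := fun i => if hi : i = 0 then 1 else (hkill i hi).choose
  have ht : ∀ i, t i ∉ q := fun i => by
    by_cases hi : i = 0
    · simp only [t, dif_pos hi]
      exact q.ne_top_iff_one.1 (Ideal.IsPrime.ne_top ‹_›)
    · simp only [t, dif_neg hi]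
      exact (hkill i hi).choose_spec.1
  obtain ⟨π, hπs, hπk⟩ := KosCone.Basic.exists_toH0 fs
  obtain ⟨e0⟩ := nonempty_homologyExt (C := Sq) E 0
  let eq0 : Sq ⊗[S] E.homology 0 ≃ₗ[Sq] Sq ⊗[S] (S ⧸ J) :=
    (e0.symm ≪≫ hq 0).toLinearEquiv ≪≫ₗ (π.quotKerEquivOfSurjective hπs).symm ≪≫ₗ
      Submodule.quotEquivOfEq _ _ (hπk.trans hJq) ≪≫ₗ
      (Algebra.TensorProduct.quotIdealMapEquivTensorQuot Sq J).toLinearEquiv
  obtain ⟨g₄, hg₄, hiso₄⟩ := exists_equiv_away q eq0
  -- the neighbourhood
  let d := (l.map Prod.snd).prod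
  have hprime : q.IsPrime := inferInstance
  have hd : d ∉ q := Submonoid.list_prod_mem q.primeCompl fun x hx => by
    obtain ⟨p, hp, rfl⟩ := List.mem_map.1 hx
    exact hl2 p hp
  let T := ∏ i ∈ Finset.Icc a b, t i
  have hT : T ∉ q := fun h => by
    obtain ⟨i, -, hi⟩ := (Ideal.IsPrime.prod_mem_iff).1 h
    exact ht i hi
  obtain ⟨g, hg⟩ : ∃ g : S, g = d * T * g₁ * g₂ * g₃ * g₄ := ⟨_, rfl⟩
  refine ⟨g, ?_, fun φ => ?_⟩
  · simp only [hg, hprime.mul_mem_iff_mem_or_mem, not_or]
    exact ⟨⟨⟨⟨⟨hd, hT⟩, hg₁⟩, hg₂⟩, hg₃⟩, hg₄⟩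
  let C := Localization.Away g
  haveI : Module.Flat S C := IsLocalization.flat C (Submonoid.powers g)
  have hdvd : d ∣ g ∧ T ∣ g ∧ g₁ ∣ g ∧ g₂ ∣ g ∧ g₃ ∣ g ∧ g₄ ∣ g := by
    simp only [hg]
    refine ⟨?_, ?_, ?_, ?_, ?_, dvd_mul_left _ _⟩
    · exact dvd_mul_of_dvd_left (dvd_mul_of_dvd_left (dvd_mul_of_dvd_left (dvd_mul_of_dvd_left (dvd_mul_right _ _) _) _) _) _
    · exact dvd_mul_of_dvd_left (dvd_mul_of_dvd_left (dvd_mul_of_dvd_left (dvd_mul_of_dvd_left (dvd_mul_left _ _) _) _) _) _
    · exact dvd_mul_of_dvd_left (dvd_mul_of_dvd_left (dvd_mul_of_dvd_left (dvd_mul_left _ _) _) _) _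
    · exact dvd_mul_of_dvd_left (dvd_mul_of_dvd_left (dvd_mul_left _ _) _) _
    · exact dvd_mul_of_dvd_left (dvd_mul_left _ _) _
  have hu : IsUnit (algebraMap S C g) := IsLocalization.Away.algebraMap_isUnit g
  have hunit : ∀ s, s ∣ g → IsUnit (algebraMap S C s) := fun s hs => isUnit_of_dvd_unit (map_dvd _ hs) hu
  have hp2 : ∀ p ∈ l, IsUnit (algebraMap S C p.2) := fun p hp =>
    hunit _ ((List.dvd_prod (List.mem_map_of_mem hp)).trans hdvd.1)
  let fs' : List C := l.map fun p => algebraMap S C p.1 * Ring.inverse (algebraMap S C p.2)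
  have hmap : fs'.map φ = fs := by
    refine List.ext_getElem (by simp [fs', hlen]) fun i h₁ h₂ => ?_
    have h₃ : i < l.length := hlen ▸ h₂
    have hp := List.getElem_mem h₃
    simp only [fs', List.getElem_map]
    refine ((hp2 _ hp).map φ).mul_right_cancel ?_
    rw [← map_mul, mul_assoc, Ring.inverse_mul_cancel _ (hp2 _ hp), mul_one, AlgHom.commutes, AlgHom.commutes]
    exact (hget i h₂ h₃).symm
  have hassoc' : List.Forall₂ Associated (as.map (algebraMap S C)) fs' := by
    rw [List.map_map, List.forall₂_map_left_iff, List.forall₂_map_right_iff, List.forall₂_same]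
    intro p hp
    exact ⟨(hp2 p hp).unit⁻¹, by rw [Ring.inverse_of_isUnit (hp2 p hp)]; rfl⟩
  have hJC : Ideal.ofList fs' = J.map (algebraMap S C) := by
    rw [Ideal.map_ofList]
    have aux : ∀ {m m' : List C}, List.Forall₂ Associated m m' → Ideal.ofList m = Ideal.ofList m' := by
      intro m m' h
      induction h with
      | nil => rfl
      | cons h _ ih =>
        obtain ⟨u, rfl⟩ := h
        rw [Ideal.ofList_cons, Ideal.ofList_cons, ih, Ideal.span_singleton_mul_right_unit u.isUnit]
    exact (aux hassoc').symm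
  have hr : IsWeaklyRegular C fs' := isWeaklyRegular_of_associated hassoc' (hreg₁ g hdvd.2.2.1 C)
  have hr' : IsWeaklyRegular C fs'.reverse := isWeaklyRegular_of_associated
    (l := as.reverse.map (algebraMap S C)) (by rw [List.map_reverse]; exact List.forall₂_reverse_iff.2 hassoc')
    (hreg₂ g hdvd.2.2.2.1 C)
  refine ⟨fs', hmap, ⟨hr, fun h => ?_⟩, ?_, fun {_} => ?_⟩
  · have h1 : (1 : C) ∈ Ideal.ofList fs' := by
      rw [smul_eq_mul, Ideal.mul_top] at h; exact h ▸ trivial
    have h2 := Ideal.mem_map_of_mem φ h1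
    rw [map_one, show (Ideal.ofList fs').map φ = Ideal.ofList (fs'.map φ) from Ideal.map_ofList φ.toRingHom fs',
      hmap] at h2
    exact (maximalIdeal.isMaximal Sq).ne_top ((Ideal.eq_top_iff_one _).2 (Ideal.span_le.2 hfs h2))
  · have : IsLocalizedModule (Submonoid.powers g) (Algebra.linearMap S C) :=
      (isLocalizedModule_iff_isLocalization' _ _).2 inferInstance
    let π := Submodule.toLocalizedQuotient' C (Submonoid.powers g) (Algebra.linearMap S C) J
    have heq : Submodule.localized' C (Submonoid.powers g) (Algebra.linearMap S C) J = J.map (algebraMap S C) := by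
      rw [show J = Submodule.span S {x | x ∈ as} from rfl, Submodule.localized'_span, Ideal.map_span]
      rfl
    have := FlatOpen.flat_of_flatAt_basicOpen (R := R) g π fun P hP hgP =>
      hflat₃ (show (⟨P, hP⟩ : PrimeSpectrum S) ∈ PrimeSpectrum.basicOpen g₃ from
        fun h => hgP (Ideal.mem_of_dvd _ hdvd.2.2.2.2.1 h))
    exact Module.Flat.of_linearEquiv ((Submodule.quotEquivOfEq _ _ (heq.trans hJC.symm)).restrictScalars R).symm
  · let iC := (Perfect.baseChangeIsoOfRep (algebraMap S C) hEk e).symm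
    have hz : ∀ i ≠ (0 : ℤ), IsZero (((LTensor.extCx (algebraMap S C)).obj E).homology i) := by
      intro i hi
      by_cases hab : i < a ∨ b < i
      · exact ShortComplex.isZero_homology_of_isZero_X₂ _ (Perfect.isZero_extCx _ (hE i hab))
      obtain ⟨ei⟩ := nonempty_homologyExt (C := C) E i
      refine IsZero.of_iso ?_ ei
      have hti : IsUnit (algebraMap S C (t i)) :=
        hunit _ ((Finset.dvd_prod_of_mem t (Finset.mem_Icc.2 ⟨by omega, by omega⟩)).trans hdvd.2.1)
      have hk : ∀ m : E.homology i, t i • m = 0 := by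
        simp only [t, dif_neg hi]
        exact (hkill i hi).choose_spec.2
      haveI : Subsingleton (C ⊗[S] E.homology i) := by
        refine subsingleton_of_forall_eq 0 fun x => ?_
        rw [← hti.smul_eq_zero, algebraMap_smul]
        induction x using TensorProduct.induction_on with
        | zero => simp
        | tmul c w => rw [TensorProduct.smul_tmul', TensorProduct.smul_tmul, hk, TensorProduct.tmul_zero]
        | add x y hx hy => rw [smul_add, hx, hy, add_zero]
      exact ModuleCat.isZero_of_subsingleton _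
    obtain ⟨π', hπs', hπk'⟩ := KosCone.Basic.exists_toH0 fs'
    obtain ⟨e0'⟩ := nonempty_homologyExt (C := C) E 0
    obtain ⟨eC⟩ := hiso₄ g hdvd.2.2.2.2.2 C
    let eH : ((LTensor.extCx (algebraMap S C)).obj E).homology 0 ≅ (Koszul.koszul C fs').homology 0 :=
      (e0'.toLinearEquiv ≪≫ₗ eC ≪≫ₗ (Algebra.TensorProduct.quotIdealMapEquivTensorQuot C J).symm.toLinearEquiv ≪≫ₗ
        Submodule.quotEquivOfEq _ _ (hπk'.trans hJC).symm ≪≫ₗ π'.quotKerEquivOfSurjective hπs').toModuleIso
    obtain ⟨iso⟩ := KoszulLift.nonempty_iso_of_homology hz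
      (KoszulWiebe.acyclic_of_isWeaklyRegular_reverse fs' hr') eH
    exact ⟨iC ≪≫ iso⟩

end Groth.Agent.DRing.KoszulSpread
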